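import Cfsg.Agent.Lib.Helper44.FW.Defs

/-!
# FW (S3211) package [ISO]

An involution `j` isolated among its commuting conjugates is the only conjugate of `j`
in any Sylow 2-subgroup containing it (dihedral argument, by induction on the order of
`j * t`).
-/

namespace Cfsg.Agent.Lib.Helper10.FW

universe u

/-- Dihedral induction: a conjugate `t` of `j` with `(j t)^(2^n) = 1` equals `j`. -/
theorem iso_aux {G : Type u} [Group G] (j : G) (hj : j * j = 1)
    (H : ∀ g : G, (g * j * g⁻¹) * j = j * (g * j * g⁻¹) → g * j * g⁻¹ = j) :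
    ∀ n : ℕ, ∀ g : G, (j * (g * j * g⁻¹)) ^ (2 ^ n) = 1 → g * j * g⁻¹ = j := by
  intro n
  induction n with
  | zero =>
    intro g hg
    rw [pow_zero, pow_one] at hg
    have h1 : g * j * g⁻¹ = j⁻¹ := (inv_eq_of_mul_eq_one_right hg).symm
    rw [h1]
    exact inv_eq_of_mul_eq_one_right hj
  | succ n ih =>
    intro g hg
    have ht2 : (g * j * g⁻¹) * (g * j * g⁻¹) = 1 := by
      calc g * j * g⁻¹ * (g * j * g⁻¹) = g * (j * j) * g⁻¹ := by group
        _ = 1 := by rw [hj]; group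
    have htinv : (g * j * g⁻¹)⁻¹ = g * j * g⁻¹ := inv_eq_of_mul_eq_one_right ht2
    have h2 : (j * ((g * j * g⁻¹) * j * (g * j * g⁻¹)⁻¹)) ^ (2 ^ n) = 1 := by
      rw [htinv]
      have h3 : j * ((g * j * g⁻¹) * j * (g * j * g⁻¹)) = (j * (g * j * g⁻¹)) ^ 2 := by
        rw [pow_two]; group
      rw [h3, ← pow_mul, ← pow_succ']
      exact hg
    have h3 := ih (g * j * g⁻¹) h2
    rw [htinv] at h3
    apply H g
    calc (g * j * g⁻¹) * j = (g * j * g⁻¹) * j * ((g * j * g⁻¹) * (g * j * g⁻¹)) := by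
          rw [ht2, mul_one]
      _ = ((g * j * g⁻¹) * j * (g * j * g⁻¹)) * (g * j * g⁻¹) := by
          simp only [mul_assoc]
      _ = j * (g * j * g⁻¹) := by rw [h3]

/-- Package [ISO] of FW (S3211). -/
theorem pkgIso : Cfsg.Agent.Lib.Helper44.FW.PkgIso.{u} := by
  intro G _ _ j hj H P hjP g hgP
  have hj2 : j * j = 1 := by
    have h := pow_orderOf_eq_one j
    rw [hj, pow_two] at h
    exact h
  have hmem : j * (g * j * g⁻¹) ∈ (P : Subgroup G) := mul_mem hjP hgP
  obtain ⟨k, hk⟩ := P.isPGroup' ⟨j * (g * j * g⁻¹), hmem⟩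
  have hk' : (j * (g * j * g⁻¹)) ^ (2 ^ k) = 1 := by
    have h := congrArg Subtype.val hk
    simpa using h
  exact iso_aux j hj2 H k g hk'

end Cfsg.Agent.Lib.Helper10.FW
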