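import Cfsg.Agent.Lib.Helper44.FW.Defs

/-!
# FW (S3211) package [SL2U]

In `SL₂(F)` with `2 ≠ 0`, the only elements of square one are `1` and `-1`.
-/

namespace Cfsg.Agent.Lib.Helper10.FW

universe u

/-- Package [SL2U] of FW (S3211). -/
theorem pkgSL2U : Cfsg.Agent.Lib.Helper44.FW.PkgSL2U.{u} := by
  intro F _ h2 x hx
  have hx' : x * x = 1 := by rw [← pow_two]; exact hx
  have hdet : x.1 0 0 * x.1 1 1 - x.1 0 1 * x.1 1 0 = 1 := by
    have h := x.det_coe
    rw [Matrix.det_fin_two] at h
    exact h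
  have hm : x.1 * x.1 = 1 := by
    have h := congrArg Subtype.val hx'
    simpa using h
  have e00 : x.1 0 0 * x.1 0 0 + x.1 0 1 * x.1 1 0 = 1 := by
    have h := congrFun (congrFun hm 0) 0
    simpa [Matrix.mul_apply, Fin.sum_univ_two] using h
  have e01 : x.1 0 0 * x.1 0 1 + x.1 0 1 * x.1 1 1 = 0 := by
    have h := congrFun (congrFun hm 0) 1
    simpa [Matrix.mul_apply, Fin.sum_univ_two] using h
  have e10 : x.1 1 0 * x.1 0 0 + x.1 1 1 * x.1 1 0 = 0 := by
    have h := congrFun (congrFun hm 1) 0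
    simpa [Matrix.mul_apply, Fin.sum_univ_two] using h
  have hs : x.1 0 0 * (x.1 0 0 + x.1 1 1) = 2 := by linear_combination e00 + hdet
  have hs0 : x.1 0 0 + x.1 1 1 ≠ 0 := by
    intro h
    rw [h, mul_zero] at hs
    exact h2 hs.symm
  have hb : x.1 0 1 = 0 := by
    have h : x.1 0 1 * (x.1 0 0 + x.1 1 1) = 0 := by linear_combination e01
    exact (mul_eq_zero.mp h).resolve_right hs0
  have hc : x.1 1 0 = 0 := by
    have h : x.1 1 0 * (x.1 0 0 + x.1 1 1) = 0 := by linear_combination e10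
    exact (mul_eq_zero.mp h).resolve_right hs0
  have haa : x.1 0 0 * x.1 0 0 = 1 := by
    rw [hb, zero_mul, add_zero] at e00
    exact e00
  have had : x.1 0 0 * x.1 1 1 = 1 := by
    rw [hb, zero_mul, sub_zero] at hdet
    exact hdet
  have ha0 : x.1 0 0 ≠ 0 := by
    intro h
    rw [h, zero_mul] at haa
    exact zero_ne_one haa
  have hda : x.1 1 1 = x.1 0 0 := by
    have h : x.1 0 0 * (x.1 1 1 - x.1 0 0) = 0 := by linear_combination had - haa
    rcases mul_eq_zero.mp h with h' | h'
    · exact absurd h' ha0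
    · exact sub_eq_zero.mp h'
  have ha1 : (x.1 0 0 - 1) * (x.1 0 0 + 1) = 0 := by linear_combination haa
  rcases mul_eq_zero.mp ha1 with h | h
  · left
    have h00 : x.1 0 0 = 1 := sub_eq_zero.mp h
    apply Subtype.ext
    ext i k
    fin_cases i <;> fin_cases k
    · simpa using h00
    · simpa using hb
    · simpa using hc
    · simpa using hda.trans h00
  · right
    have h00 : x.1 0 0 = -1 := eq_neg_of_add_eq_zero_left h
    apply Subtype.ext
    ext i k
    fin_cases i <;> fin_cases k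
    · simpa [Cfsg.Agent.Lib.Helper44.FW.negOne] using h00
    · simpa [Cfsg.Agent.Lib.Helper44.FW.negOne] using hb
    · simpa [Cfsg.Agent.Lib.Helper44.FW.negOne] using hc
    · simpa [Cfsg.Agent.Lib.Helper44.FW.negOne] using hda.trans h00

end Cfsg.Agent.Lib.Helper10.FW
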